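import Cfsg.Agent.Lib.FusionBasics.Transport
import Cfsg.Agent.Lib.FusionDichotomy.Constrained
import Cfsg.Agent.Lib.Alperin.SystemImageComponent
import Cfsg.Agent.Lib.FusionBasics.Reduction.CentralizerNormal
import Cfsg.Agent.Lib.FusionLifting.Components
import Cfsg.Agent.Lib.FusionFitting.Descend
import Cfsg.Agent.S5148

/-!
Centralizer systems inside normalizer systems, their transport by maps, and the normalizer system
of the subgroup of the layer.
-/

set_option autoImplicit false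
set_option linter.style.haveILetI false
set_option linter.unusedSectionVars false

namespace CfsgLib.FusionBasics.Balance

open Cfsg Cfsg.FusionSystem CfsgLib.Alperin CfsgLib.Alperin.NormalLift CfsgLib.FusionSub
open CfsgLib.FusionBasics

universe u

variable {Ω : Type u} [Group Ω] {S T Z W : Subgroup Ω} {F : FusionSystem S}
  {p : ℕ} [Fact p.Prime] [Finite S]

theorem map_subgroupOf_of_fix {A : Subgroup Ω} {ψ : A →* Ω} (hWA : W ≤ A)
    (hfix : ∀ (w : A), (w : Ω) ∈ W → ψ w = w) : (W.subgroupOf A).map ψ = W := by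
  ext y
  constructor
  · rintro ⟨w, hw, rfl⟩
    rw [hfix w hw]
    exact hw
  · exact fun hy => ⟨⟨y, hWA hy⟩, hy, hfix _ hy⟩

/-- A map of `F` fixing `W ≥ Z` gives a map of the centralizer of `W` in the normalizer of `Z`. -/
theorem mem_centralizer_normalizer (hWS : W ≤ normalizerIn S Z) (hZW : Z ≤ W)
    {N : FusionSystem (normalizerIn S Z)} (hN : F.IsNormalizerSystem Z N) {P : Subgroup Ω}
    (hP : P ≤ centralizerIn (normalizerIn S Z) W) {ψ : ↥(P ⊔ W) →* Ω} (hψ : ψ ∈ F.Hom (P ⊔ W))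
    (hfix : ∀ w : W, ψ (Subgroup.inclusion le_sup_right w) = w) :
    ψ.comp (Subgroup.inclusion le_sup_left) ∈ N.centralizerHom W P := by
  have hfix' : ∀ w : ↥(P ⊔ W), (w : Ω) ∈ W → ψ w = w := fun w hw => hfix ⟨w, hw⟩
  have hZA : Z ≤ P ⊔ W := hZW.trans le_sup_right
  have hψZ := map_subgroupOf_of_fix (W := Z) hZA fun w hw => hfix' w (hZW hw)
  have hPT : P ⊔ W ≤ normalizerIn S Z := sup_le (hP.trans (centralizerIn_le _ W)) hWS
  haveI := finite_of_le (hPT.trans (normalizerIn_le S Z))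
  have hψN : ψ ∈ N.Hom (P ⊔ W) := by
    rw [hN, show ψ = ψ.comp (Subgroup.inclusion le_rfl) from MonoidHom.ext fun _ => rfl]
    exact CfsgLib.FusionDichotomy.mem_normalizer_of_map hψ hZA hψZ le_rfl hPT
  refine ⟨restrict_mem hψN le_sup_left, hP, fun x => ⟨apply_mem hψN _, fun w hw => ?_⟩,
    ψ, hψN, fun x => rfl, hfix⟩
  have e := hfix ⟨w, hw⟩
  calc w * (ψ.comp (Subgroup.inclusion le_sup_left)) x
      = ψ (Subgroup.inclusion le_sup_right ⟨w, hw⟩) * ψ (Subgroup.inclusion le_sup_left x) := by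
        rw [e]; rfl
    _ = ψ (Subgroup.inclusion le_sup_left x) * ψ (Subgroup.inclusion le_sup_right ⟨w, hw⟩) := by
        rw [← map_mul, ← map_mul]
        exact congrArg ψ (Subtype.ext ((hP x.2).2 w hw))
    _ = _ := by rw [e]; rfl

/-- Maps carry centralizer systems to centralizer systems. -/
theorem centralizer_normalizer_iso {Z' W' A : Subgroup Ω}
    (hWS : W ≤ normalizerIn S Z) (hZW : Z ≤ W) (hWS' : W' ≤ normalizerIn S Z') (hZW' : Z' ≤ W')
    {N : FusionSystem (normalizerIn S Z)} (hN : F.IsNormalizerSystem Z N)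
    {C : FusionSystem (centralizerIn (normalizerIn S Z) W)} (hC : N.IsCentralizerSystem W C)
    {N' : FusionSystem (normalizerIn S Z')} (hN' : F.IsNormalizerSystem Z' N')
    {C' : FusionSystem (centralizerIn (normalizerIn S Z') W')}
    (hC' : N'.IsCentralizerSystem W' C')
    {φ : A →* Ω} (hφ : φ ∈ F.Hom A) (hWA : W ≤ A)
    (hCA : centralizerIn (normalizerIn S Z) W ≤ A) (hφW : (W.subgroupOf A).map φ = W')
    (hφC : ((centralizerIn (normalizerIn S Z) W).subgroupOf A).map φ =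
      centralizerIn (normalizerIn S Z') W') :
    SystemIso C C' (φ.comp (Subgroup.inclusion hCA)) := by
  set C₀ := centralizerIn (normalizerIn S Z) W
  set ι := φ.comp (Subgroup.inclusion hCA) with hι
  have hinj : Function.Injective ι :=
    (F.injective_of_mem hφ).comp (Subgroup.inclusion_injective hCA)
  have hr : ι.range = centralizerIn (normalizerIn S Z') W' :=
    (range_comp_inclusion φ hCA).trans hφC
  refine ⟨hinj, hr, fun {P} m hm => ?_, fun {P} hP m' hm' => ?_⟩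
  · have hP : P ≤ C₀ := dom_le hm
    have hm0 := hm
    rw [hC P] at hm0
    obtain ⟨-, -, hmC, ψ, hψ, hψx, hψW⟩ := hm0
    rw [hN] at hψ
    have hPA : P ⊔ W ≤ A := sup_le (hP.trans hCA) hWA
    have hψA : ∀ z, ψ z ∈ A := fun z => apply_mem_of_sup ψ
      (fun x => by rw [hψx]; exact hCA (apply_mem hm x))
      (fun w => by rw [hψW]; exact hWA w.2) z
    obtain ⟨θ, hθ, -, hθx, -⟩ := exists_inverse (restrict_mem hφ hPA) rfl
    have hle : img ι P ⊔ W' ≤ (φ.comp (Subgroup.inclusion hPA)).range := by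
      refine sup_le ?_ ?_
      · rintro _ ⟨x, hx, rfl⟩
        exact ⟨⟨x, Subgroup.mem_sup_left hx⟩, rfl⟩
      · intro y hy
        obtain ⟨w, hw, rfl⟩ := hφW.ge hy
        exact ⟨⟨w, Subgroup.mem_sup_right hw⟩, rfl⟩
    have hθm : ∀ y, θ y ∈ P ⊔ W := by
      rintro ⟨_, z, rfl⟩
      exact Eq.subst (motive := fun v => v ∈ P ⊔ W) (hθx z ⟨z, rfl⟩).symm z.2
    set τ₀ := (φ.comp (ψ.codRestrict A hψA)).comp (θ.codRestrict _ hθm) with hτ₀
    have hτ₀F : τ₀ ∈ F.Hom _ := F.comp_mem hθ (F.comp_mem hψ.1 hφ hψA) hθm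
    have hτ₀x : ∀ (z : ↥(P ⊔ W)) (hz : φ (Subgroup.inclusion hPA z) ∈
        (φ.comp (Subgroup.inclusion hPA)).range),
        τ₀ ⟨φ (Subgroup.inclusion hPA z), hz⟩ = φ ⟨ψ z, hψA z⟩ := fun z hz =>
      congrArg φ (Subtype.ext (congrArg ψ (Subtype.ext (hθx z hz))))
    set τ := τ₀.comp (Subgroup.inclusion hle) with hτ
    have hPC' : img ι P ≤ centralizerIn (normalizerIn S Z') W' := (img_le_range ι P).trans hr.le
    have hmem := mem_centralizer_normalizer hWS' hZW' hN' hPC' (restrict_mem hτ₀F hle)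
      fun w => by
        obtain ⟨v, hv, hvw⟩ := hφW.ge w.2
        have hv' : (v : Ω) ∈ P ⊔ W := Subgroup.mem_sup_right hv
        refine (congrArg τ₀ (Subtype.ext hvw.symm :
          _ = (⟨φ (Subgroup.inclusion hPA ⟨v, hv'⟩), ⟨⟨v, hv'⟩, rfl⟩⟩ :
            (φ.comp (Subgroup.inclusion hPA)).range))).trans ((hτ₀x ⟨v, hv'⟩ _).trans ?_)
        exact (congrArg φ (Subtype.ext (hψW ⟨v, hv⟩))).trans hvw
    refine ⟨_, by rw [hC']; exact hmem, fun x => ?_⟩
    refine (hτ₀x (Subgroup.inclusion le_sup_left x)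
      (hle (Subgroup.mem_sup_left ⟨⟨x, hP x.2⟩, x.2, rfl⟩))).trans ?_
    exact congrArg φ (Subtype.ext (hψx x))
  · have hm0 := hm'
    rw [hC' (img ι P)] at hm0
    obtain ⟨-, -, hmC, ψ, hψ, hψx, hψW⟩ := hm0
    rw [hN'] at hψ
    have hPA : P ⊔ W ≤ A := sup_le (hP.trans hCA) hWA
    obtain ⟨θ, hθ, -, hθx, hxθ⟩ := exists_inverse hφ rfl
    have himg : ∀ z : ↥(P ⊔ W), φ (Subgroup.inclusion hPA z) ∈ img ι P ⊔ W' := fun z =>
      apply_mem_of_sup (U := img ι P ⊔ W') (φ.comp (Subgroup.inclusion hPA))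
        (fun x => Subgroup.mem_sup_left ⟨⟨x, hP x.2⟩, x.2, rfl⟩)
        (fun w => Subgroup.mem_sup_right (hφW.le ⟨⟨w, hWA w.2⟩, w.2, rfl⟩)) z
    have hψA : ∀ y, ψ y ∈ φ.range := fun y => apply_mem_of_sup ψ
      (fun x => by
        rw [hψx]
        exact hφC.ge (hmC x) |> fun ⟨a, _, ha⟩ => ⟨a, ha⟩)
      (fun w => by
        rw [hψW]
        obtain ⟨a, -, ha⟩ := hφW.ge w.2
        exact ⟨a, ha⟩) y
    set τ := (θ.comp (ψ.codRestrict _ hψA)).comp
      ((φ.comp (Subgroup.inclusion hPA)).codRestrict _ himg) with hτ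
    have hτF : τ ∈ F.Hom (P ⊔ W) :=
      F.comp_mem (restrict_mem hφ hPA) (F.comp_mem hψ.1 hθ hψA) himg
    have hmem := mem_centralizer_normalizer hWS hZW hN hP hτF fun w => by
      have e := hψW ⟨_, hφW.le ⟨⟨w, hWA w.2⟩, w.2, rfl⟩⟩
      refine (congrArg θ (Subtype.ext ?_ :
        _ = (⟨φ ⟨w, hWA w.2⟩, ⟨_, rfl⟩⟩ : φ.range))).trans (hθx ⟨w, hWA w.2⟩ _)
      exact (congrArg ψ (Subtype.ext rfl)).trans e
    refine ⟨_, by rw [hC]; exact hmem, fun x h => ?_⟩
    have e1 : ψ ⟨_, himg (Subgroup.inclusion le_sup_left x)⟩ = m' (imgEquiv ι hinj hP x) :=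
      (congrArg ψ (Subtype.ext rfl)).trans (hψx (imgEquiv ι hinj hP x))
    exact e1.symm.trans (hxθ ⟨_, hψA _⟩ (hCA h)).symm

/-- Conjugates of `W` in `N_S(X)` have no larger centralizers. -/
theorem card_centralizer_le (hS : IsPGroup p S) (hF : F.IsSaturated p) {X : Subgroup Ω}
    (hX : F.IsFullyNormalized X) {N : FusionSystem (normalizerIn S X)}
    (hN : F.IsNormalizerSystem X N) (hXW : X ≤ W) (hWN : W ≤ normalizerIn S X)
    (hWc : N.StronglyClosed W) {φ : W →* Ω} (hφ : φ ∈ F.Hom W) :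
    Nat.card (centralizerIn S φ.range) ≤ Nat.card (centralizerIn (normalizerIn S X) W) := by
  set X' := (X.subgroupOf W).map φ with hX'
  have hconj : F.IsConj X X' :=
    ⟨φ.comp (Subgroup.inclusion hXW), restrict_mem hφ hXW, range_comp_inclusion φ hXW⟩
  obtain ⟨χ, hχ, hχN, hχX⟩ := exists_hom_normalizerIn_of_fullyNormalized hS hF hX
    (CfsgLib.Alperin.IsConj.symm hconj)
  have hφN : ∀ w : W, φ w ∈ normalizerIn S X' := fun w =>
    apply_mem_normalizerIn hφ hXW rfl w (hWN w.2).2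
  set μ := χ.comp (φ.codRestrict _ hφN) with hμ
  have hμF : μ ∈ F.Hom W := F.comp_mem hφ hχ hφN
  have hμX : (X.subgroupOf W).map μ = X := by
    ext y
    constructor
    · rintro ⟨w, hw, rfl⟩
      exact hχX.le ⟨_, ⟨w, hw, rfl⟩, rfl⟩
    · intro hy
      obtain ⟨v, ⟨w, hw, hwv⟩, rfl⟩ := hχX.ge hy
      exact ⟨w, hw, congrArg χ (Subtype.ext hwv)⟩
  haveI := finite_of_le (hWN.trans (normalizerIn_le S X))
  have hμN : μ ∈ N.Hom W := by
    rw [hN, show μ = μ.comp (Subgroup.inclusion le_rfl) from MonoidHom.ext fun _ => rfl]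
    exact CfsgLib.FusionDichotomy.mem_normalizer_of_map hμF hXW hμX le_rfl hWN
  have hμs : μ.range = W := Subgroup.eq_of_le_of_card_ge
    (by rintro _ ⟨w, rfl⟩; exact hWc.2 W le_rfl μ hμN w)
    (card_range_eq (F.injective_of_mem hμF)).ge
  have hle : centralizerIn S φ.range ≤ normalizerIn S X' := fun v hv =>
    ⟨hv.1, centralizer_le_normalizer X' fun y hy => by
      obtain ⟨w, -, rfl⟩ := hy
      exact hv.2 _ ⟨w, rfl⟩⟩
  haveI := finite_of_le ((centralizerIn_le _ W).trans (normalizerIn_le S X))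
  refine Nat.card_le_card_of_injective
    (fun v => ⟨χ (Subgroup.inclusion hle v), hχN _, fun y hy => ?_⟩)
    fun a b hab => Subgroup.inclusion_injective hle (F.injective_of_mem hχ
      (congrArg (fun z : ↥(centralizerIn (normalizerIn S X) W) => (z : Ω)) hab))
  obtain ⟨w, rfl⟩ := hμs.ge hy
  rw [hμ, MonoidHom.comp_apply, ← map_mul, ← map_mul]
  exact congrArg χ (Subtype.ext (v.2.2 _ ⟨w, rfl⟩))

/-- The normalizer systems of subgroups containing the subgroup of the layer have no component. -/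
theorem no_component_above (hS : IsPGroup p S) (hF : F.IsSaturated p) {E : FusionSystem T}
    (hE : E.IsLayerOf F p) {Q : Subgroup Ω} (hTQ : T ≤ Q) (hQ : F.IsFullyNormalized Q)
    {N : FusionSystem (normalizerIn S Q)} (hN : F.IsNormalizerSystem Q N) {U : Subgroup Ω}
    {L : FusionSystem U} (hL : L.IsComponentIn N p) : False := by
  have hT := hE.1.1.2.2.2.1
  have hTS := hT.1
  haveI := finite_of_le hTS
  have hTn : F.IsFullyNormalized T := by
    refine ⟨hTS, fun Q₁ ⟨φ, hφ, hr⟩ => ?_⟩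
    have hQT : Q₁ ≤ T := by
      rw [← hr]
      rintro _ ⟨x, rfl⟩
      exact hT.2 T le_rfl φ hφ x
    rw [Subgroup.eq_of_le_of_card_ge hQT (by rw [← hr, card_range_eq (F.injective_of_mem hφ)])]
  obtain ⟨M₀, hM₀⟩ := exists_normalizerSystem F hTS
  have hM₀s := Cfsg.Agent.S5098.result p hS F hF T hTn M₀ hM₀
  suffices key : ∀ (R : Subgroup Ω), R = S → ∀ M : FusionSystem R,
      (∀ P, M.Hom P = F.normalizerHom T P) → M.IsSaturated p → False from
    key _ (le_antisymm (normalizerIn_le S T)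
      (le_inf le_rfl (stronglyClosed_le_normalizer hT))) M₀ hM₀ hM₀s
  rintro R rfl M hM hMs
  -- maps preserve `T`
  have hmemM : ∀ {A : Subgroup Ω} {ψ : A →* Ω}, ψ ∈ F.Hom A → T ≤ A → ψ ∈ M.Hom A := by
    intro A ψ hψ hTA
    haveI := finite_of_le (dom_le hψ)
    rw [hM, show ψ = ψ.comp (Subgroup.inclusion le_rfl) from MonoidHom.ext fun _ => rfl]
    refine CfsgLib.FusionDichotomy.mem_normalizer_of_map hψ hTA ?_ le_rfl
      ((dom_le hψ).trans (le_inf le_rfl (stronglyClosed_le_normalizer hT)))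
    refine le_antisymm ?_ fun y hy => ?_
    · rintro _ ⟨w, hw, rfl⟩
      exact stronglyClosed_apply hT hψ w hw
    · obtain ⟨w, hw, e⟩ := exists_mem_of_mem_stronglyClosed hT hTA hψ hy
      exact ⟨w, hw, e⟩
  have hMF : M.IsSubsystemOf F := fun P φ hφ => by
    rw [hM] at hφ
    exact hφ.1
  have hMn : M.IsNormal T := by
    refine ⟨hTS, fun P φ hφ => ?_⟩
    rw [hM P] at hφ
    obtain ⟨-, -, -, ψ, hψ, hψx, hψT⟩ := hφ
    exact ⟨ψ, hmemM hψ le_sup_right, hψx, hψT⟩
  obtain ⟨C, hC⟩ := exists_centralizerSystem F hTS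
  have hCM : M.IsCentralizerSystem T C := by
    intro P
    rw [hC P]
    refine Set.ext fun φ => ⟨fun ⟨hφF, hP, hv, ψ, hψ, hψx, hψT⟩ => ?_,
      fun ⟨hφM, hP, hv, ψ, hψ, hψx, hψT⟩ => ⟨hMF _ hφM, hP, hv, ψ, hMF _ hψ, hψx, hψT⟩⟩
    refine ⟨?_, hP, hv, ψ, hmemM hψ le_sup_right, hψx, hψT⟩
    rw [show φ = ψ.comp (Subgroup.inclusion le_sup_left) from
      MonoidHom.ext fun x => (hψx x).symm]
    exact restrict_mem (hmemM hψ le_sup_right) le_sup_left
  have hCs := Cfsg.Agent.S5099.result p hS F hF T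
    (centralized_automized_of_fullyNormalized hS hF hTn).1 C hC
  have hCle := centralizerIn_le R T
  haveI := finite_of_le hCle
  have hCp := isPGroup_of_le hS hCle
  -- the centralizer of `T` has no component
  have hCno : ¬ ∃ (V : Subgroup Ω) (D : FusionSystem V), D.IsComponentIn C p := by
    rintro ⟨V, D, hD⟩
    have hY : Subgroup.closure (Central.fixedElts F E) ≤ centralizerIn R T :=
      (Subgroup.closure_le _).mpr fun y hy => hy.1
    obtain ⟨K, hKF, -, hKC⟩ := Reduction.exists_centralizer_normal_in hS hE.1 hY rfl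
    have hVY : V ≤ Subgroup.closure (Central.fixedElts F E) :=
      hD.2.2.1.ge.trans ((Central.hyperfocal_mono
        (CoreComponent.subnormal_isSubsystemOf hD.1)).trans
        (Reduction.centralizer_hyperfocal_le hS hE.1 hC))
    have hDK := CfsgLib.FusionFitting.component_descend hCp hD (hKC C hC) hVY
    have hVT : V ≤ T := subsystem_le (hE.2.1 V D ⟨IsSubnormalIn.step hDK.1 hKF, hDK.2⟩)
    haveI := finite_of_le (hVT.trans hTS)
    refine Cfsg.Agent.S5148.result p (isPGroup_of_le hS (hVT.trans hTS)) D hD.2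
      ⟨⟨fun a b => Subtype.ext ?_⟩⟩
    exact (((hVY.trans hY) b.2).2 a (hVT a.2) :)
  have hMc := CfsgLib.FusionDichotomy.isConstrained_of_centralizer hS hMs hMn hCM
    (CfsgLib.FusionComponents.constrained_of_no_component _ _ rfl hCp C hCs hCno)
  have hNM : M.IsNormalizerSystem Q N := by
    intro P
    rw [hN P]
    refine Set.ext fun φ => ⟨fun ⟨hφF, hP, hv, ψ, hψ, hψx, hψQ⟩ => ?_,
      fun ⟨hφM, hP, hv, ψ, hψ, hψx, hψQ⟩ => ⟨hMF _ hφM, hP, hv, ψ, hMF _ hψ, hψx, hψQ⟩⟩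
    have hψM := hmemM hψ (hTQ.trans le_sup_right)
    refine ⟨?_, hP, hv, ψ, hψM, hψx, hψQ⟩
    rw [show φ = ψ.comp (Subgroup.inclusion le_sup_left) from
      MonoidHom.ext fun x => (hψx x).symm]
    exact restrict_mem hψM le_sup_left
  have hQM : M.IsFullyNormalized Q :=
    ⟨hQ.1, fun Q₁ ⟨φ, hφ, hr⟩ => hQ.2 Q₁ ⟨φ, hMF _ hφ, hr⟩⟩
  haveI := finite_of_le (normalizerIn_le R Q)
  exact CfsgLib.FusionComponents.not_component_of_constrained
    (isPGroup_of_le hS (normalizerIn_le R Q))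
    (CfsgLib.FusionDichotomy.normalizer_constrained hS hMc hQM hNM) hL

end CfsgLib.FusionBasics.Balance
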