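import Cfsg.Agent.Lib.FusionBasics.Balance.Normalizer
import Cfsg.Agent.Lib.FusionBasics.Balance.Local
import Cfsg.Agent.Lib.FusionFitting.Dichotomy
import Cfsg.Agent.Lib.FusionProduct.Residual
import Cfsg.Agent.Lib.FusionProduct.LocalD

/-!
Components of normalizer systems lie in the layer.
-/

set_option autoImplicit false
set_option linter.style.haveILetI false
set_option linter.unusedSectionVars false

namespace CfsgLib.FusionBasics.Balance

open Cfsg Cfsg.FusionSystem CfsgLib.Alperin CfsgLib.FusionSub CfsgLib.FusionBasics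
open CfsgLib.FusionProduct

universe u

variable {Ω : Type u} [Group Ω] {S T : Subgroup Ω} {F : FusionSystem S} {E : FusionSystem T}
  {p : ℕ} [Fact p.Prime] [Finite S]

/-- The subgroup of a component of a normalizer system lies in that of the layer. -/
theorem component_base_le (hS : IsPGroup p S) (hF : F.IsSaturated p) (hE : E.IsLayerOf F p)
    {X : Subgroup Ω} (hX : F.IsFullyNormalized X) {N : FusionSystem (normalizerIn S X)}
    (hN : F.IsNormalizerSystem X N) {U : Subgroup Ω} {L : FusionSystem U}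
    (hL : L.IsComponentIn N p) : U ≤ T := by
  suffices H : ∀ (n : ℕ) (X : Subgroup Ω), F.IsFullyNormalized X →
      Nat.card T - Nat.card (normalizerIn T X) = n →
      ∀ (N : FusionSystem (normalizerIn S X)), F.IsNormalizerSystem X N →
      ∀ (U : Subgroup Ω) (L : FusionSystem U), L.IsComponentIn N p → U ≤ T from
    H _ X hX rfl N hN U L hL
  intro n
  induction n using Nat.strong_induction_on with
  | _ n ih =>
  clear hX hN hL X N U L
  intro X hX hn N hN U L hL
  have hS' : Setup F E p := ⟨hS, hF, hE.1⟩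
  have hT := hS'.closed
  haveI := hS'.finT
  have c : XCtx F E p X (X ⊔ T) :=
    { toCtx := ⟨hS', le_sup_right, sup_le hX.1 hS'.le⟩, hX := hX, eqR := rfl }
  haveI := finite_of_le c.rs
  obtain ⟨N₁, hN₁⟩ := exists_normalizerSystem (dSys c.toCtx) c.xR
  have hN₁n := normalizer_isNormalIn c hN hN₁
  by_contra hUT
  have hLN := CoreComponent.subnormal_isSubsystemOf hL.1
  have hNp := isPGroup_of_le hS (normalizerIn_le S X)
  haveI := finite_of_le (normalizerIn_le S X)
  have hUW : ¬ U ≤ (normalizerIn (X ⊔ T) X) := fun hle => hUT (hL.2.2.1.ge.trans ((Central.hyperfocal_mono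
    (Layer.component_le hL.1 hL.2 hNp hN₁n hle)).trans (normalizer_hyperfocal_le c hN₁).1))
  have hUY := (CfsgLib.FusionFitting.component_dichotomy hNp hL hN₁n).resolve_left hUW
  have hXW : X ≤ (normalizerIn (X ⊔ T) X) := le_inf c.xR Subgroup.le_normalizer
  have hWN : (normalizerIn (X ⊔ T) X) ≤ normalizerIn S X := inf_le_inf_right _ c.rs
  have hY : Subgroup.closure (Central.fixedElts N N₁) ≤ centralizerIn (normalizerIn S X) (normalizerIn (X ⊔ T) X) :=
    (Subgroup.closure_le _).mpr fun y hy => hy.1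
  obtain ⟨C, hC⟩ := exists_centralizerSystem N hWN
  obtain ⟨K, hKN, -, hKC⟩ := Reduction.exists_centralizer_normal_in hNp hN₁n hY rfl
  have hUC : U ≤ centralizerIn (normalizerIn S X) (normalizerIn (X ⊔ T) X) := fun u hu =>
    hY (Subgroup.subset_closure (hUY hu))
  have hLK := CfsgLib.FusionFitting.component_descend hNp hL hKN
    (fun u hu => Subgroup.subset_closure (hUY hu))
  have hLC : L.IsComponentIn C p := ⟨IsSubnormalIn.step hLK.1 (hKC C hC), hL.2⟩
  -- move `(normalizerIn (X ⊔ T) X)` to a fully normalized conjugate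
  have hWS : (normalizerIn (X ⊔ T) X) ≤ S := hWN.trans (normalizerIn_le S X)
  obtain ⟨Q, hWQ, hQ⟩ := exists_isFullyNormalized F hWS
  obtain ⟨φ, hφ, hφN, hφW⟩ := exists_hom_normalizerIn_of_fullyNormalized hS hF hQ hWQ
  have hWA : (normalizerIn (X ⊔ T) X) ≤ normalizerIn S (normalizerIn (X ⊔ T) X) := le_normalizerIn hWS
  have hC₀S : centralizerIn (normalizerIn S X) (normalizerIn (X ⊔ T) X) ≤ S :=
    (centralizerIn_le _ (normalizerIn (X ⊔ T) X)).trans (normalizerIn_le S X)
  have hCA : centralizerIn (normalizerIn S X) (normalizerIn (X ⊔ T) X) ≤ normalizerIn S (normalizerIn (X ⊔ T) X) := fun v hv =>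
    ⟨hC₀S hv, centralizer_le_normalizer (normalizerIn (X ⊔ T) X) hv.2⟩
  have hQQ : Q ≤ normalizerIn S Q := le_normalizerIn hQ.1
  have hφC : ((centralizerIn (normalizerIn S X) (normalizerIn (X ⊔ T) X)).subgroupOf (normalizerIn S (normalizerIn (X ⊔ T) X))).map φ =
      centralizerIn (normalizerIn S Q) Q := by
    haveI := finite_of_le ((centralizerIn_le _ Q).trans (normalizerIn_le S Q))
    haveI := finite_of_le (centralizerIn_le S Q)
    refine Subgroup.eq_of_le_of_card_ge ?_ ?_
    · rintro _ ⟨v, hv, rfl⟩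
      exact ⟨hφN v, (apply_mem_centralizerIn hφ hWA hφW v hv.2).2⟩
    · rw [Subgroup.card_map_of_injective (F.injective_of_mem hφ),
        Nat.card_congr (Subgroup.subgroupOfEquivOfLe hCA).toEquiv]
      have hle : centralizerIn (normalizerIn S Q) Q ≤ centralizerIn S Q :=
        inf_le_inf_right _ (normalizerIn_le S Q)
      refine (Nat.card_le_card_of_injective _ (Subgroup.inclusion_injective hle)).trans ?_
      have hr : (φ.comp (Subgroup.inclusion hWA)).range = Q :=
        (range_comp_inclusion φ hWA).trans hφW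
      rw [← hr]
      exact card_centralizer_le hS hF hX hN hXW hWN hN₁n.1.2.2.2.1 (restrict_mem hφ hWA)
  obtain ⟨N', hN'⟩ := exists_normalizerSystem F hQ.1
  obtain ⟨C', hC'⟩ := exists_centralizerSystem N' hQQ
  have hiso := centralizer_normalizer_iso hWN hXW hQQ le_rfl hN hC hN' hC' hφ hWA hCA hφW hφC
  haveI := finite_of_le ((centralizerIn_le _ (normalizerIn (X ⊔ T) X)).trans (normalizerIn_le S X))
  obtain ⟨hUle, hsub⟩ := subnormal_iso hLC.1 C' _ hiso
  haveI := finite_of_le (hUle.trans hC₀S)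
  set ι := φ.comp (Subgroup.inclusion hCA)
  set ιU := ι.comp (Subgroup.inclusion hUle) with hιU
  have hinj : Function.Injective ιU := hiso.inj.comp (Subgroup.inclusion_injective hUle)
  obtain ⟨L', hL'⟩ := exists_image L hinj rfl
  have hN's := Cfsg.Agent.S5098.result p hS F hF Q hQ N' hN'
  have hQn : N'.IsNormal Q := by
    refine ⟨hQQ, fun P m hm => ?_⟩
    rw [hN' P] at hm
    obtain ⟨-, hPT, -, ψ, hψ, hψx, hψQ⟩ := hm
    refine ⟨ψ, ?_, hψx, hψQ⟩
    haveI := finite_of_le (sup_le (hPT.trans (normalizerIn_le S Q)) hQ.1 : P ⊔ Q ≤ S)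
    rw [hN', show ψ = ψ.comp (Subgroup.inclusion le_rfl) from MonoidHom.ext fun _ => rfl]
    exact CfsgLib.FusionDichotomy.mem_normalizer_of_map hψ le_sup_right hψQ le_rfl
      (sup_le hPT hQQ)
  haveI := finite_of_le (normalizerIn_le S Q)
  have hN'p := isPGroup_of_le hS (normalizerIn_le S Q)
  have hC'n := CoreCentralizer.centralizer_isNormalIn hN'p hN's hQn hC'
  have hL'N : L'.IsComponentIn N' p :=
    ⟨IsSubnormalIn.step (hsub L' hL') hC'n, iso_quasisimple hL' hL.2⟩
  have hφT : ∀ (z : normalizerIn S (normalizerIn (X ⊔ T) X)), (z : Ω) ∈ T → φ z ∈ T := fun z hz =>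
    stronglyClosed_apply hT hφ z hz
  have hNW : normalizerIn T X ≤ normalizerIn T (normalizerIn (X ⊔ T) X) := by
    intro t ht
    exact ⟨ht.1, (Subgroup.le_normalizer (c.inf_le_T ht) :)⟩
  by_cases hall : T ≤ normalizerIn T X
  · -- the subgroup of the layer normalizes `X`
    have hTQ : T ≤ Q := fun t ht => by
      obtain ⟨w, hw, rfl⟩ := exists_mem_of_mem_stronglyClosed hT
        (fun y hy => hWA (c.inf_le_T (hall hy))) hφ ht
      exact hφW.le ⟨w, c.inf_le_T (hall hw), rfl⟩
    exact no_component_above hS hF hE hTQ hQ hN' hL'N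
  have hlt : normalizerIn T X < normalizerIn T (normalizerIn (X ⊔ T) X) := by
    refine lt_of_le_of_ne hNW fun heq => ?_
    have hWlt : (normalizerIn (X ⊔ T) X) < X ⊔ T := lt_of_le_of_ne (normalizerIn_le _ X) fun e => hall fun t ht =>
      ⟨ht, (e.ge (c.tr ht)).2⟩
    obtain ⟨g, hg, hgN, hgW⟩ := exists_mem_normalizer_not_mem hS hWlt c.rs
    obtain ⟨x, hx, t, ht, rfl⟩ := c.exists_mul hg
    have htN : t ∈ normalizerIn T (normalizerIn (X ⊔ T) X) := ⟨ht, by
      have := Subgroup.mul_mem _ (Subgroup.inv_mem _ (Subgroup.le_normalizer (hXW hx))) hgN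
      rwa [inv_mul_cancel_left] at this⟩
    exact hgW (Subgroup.mul_mem (normalizerIn (X ⊔ T) X) (hXW hx) (c.inf_le_T (heq.ge htN)))
  have hle : Nat.card (normalizerIn T (normalizerIn (X ⊔ T) X)) ≤ Nat.card (normalizerIn T Q) := by
    have hTS : normalizerIn T (normalizerIn (X ⊔ T) X) ≤ normalizerIn S (normalizerIn (X ⊔ T) X) := inf_le_inf_right _ hT.1
    haveI := finite_of_le (normalizerIn_le T Q)
    refine Nat.card_le_card_of_injective
      (fun t => ⟨φ (Subgroup.inclusion hTS t), hφT _ t.2.1, (hφN _).2⟩)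
      fun a b hab => Subgroup.inclusion_injective hTS
        (F.injective_of_mem hφ (congrArg (fun z : ↥(normalizerIn T Q) => (z : Ω)) hab))
  haveI := finite_of_le (normalizerIn_le T (normalizerIn (X ⊔ T) X))
  haveI := finite_of_le (normalizerIn_le T X)
  have h1 : Nat.card (normalizerIn T X) < Nat.card (normalizerIn T (normalizerIn (X ⊔ T) X)) :=
    CfsgLib.FusionSub.card_lt_card (normalizerIn_le T (normalizerIn (X ⊔ T) X)) hlt
  have h2 : Nat.card (normalizerIn T Q) ≤ Nat.card T :=
    Nat.card_le_card_of_injective _ (Subgroup.inclusion_injective (normalizerIn_le T Q))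
  have hU'T := ih _ (by omega) Q hQ rfl N' hN' _ L' hL'N
  refine hUT fun u hu => ?_
  exact mem_of_apply_mem hT hφ _ (hU'T ⟨⟨u, hu⟩, rfl⟩)

/-- `E`-balance: a normal subsystem inside the layer contains the components of the normalizer. -/
theorem exists_normal_le_layer (hS : IsPGroup p S) (hF : F.IsSaturated p) (hE : E.IsLayerOf F p)
    {X : Subgroup Ω} (hX : F.IsFullyNormalized X) {N : FusionSystem (normalizerIn S X)}
    (hN : F.IsNormalizerSystem X N) :
    ∃ (W : Subgroup Ω) (D : FusionSystem W), D.IsNormalIn N p ∧ D.IsSubsystemOf E ∧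
      ∀ (U : Subgroup Ω) (C : FusionSystem U), C.IsComponentIn N p → C.IsSubsystemOf D := by
  have hS' : Setup F E p := ⟨hS, hF, hE.1⟩
  haveI := hS'.finT
  have c : XCtx F E p X (X ⊔ T) :=
    { toCtx := ⟨hS', le_sup_right, sup_le hX.1 hS'.le⟩, hX := hX, eqR := rfl }
  haveI := finite_of_le c.rs
  obtain ⟨N₁, hN₁⟩ := exists_normalizerSystem (dSys c.toCtx) c.xR
  have hN₁n := normalizer_isNormalIn c hN hN₁
  obtain ⟨hhyp, haut⟩ := normalizer_hyperfocal_le c hN₁
  haveI := finite_of_le (normalizerIn_le S X)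
  have hNp := isPGroup_of_le hS (normalizerIn_le S X)
  have hWS := hN₁n.1.2.2.2.1.1
  haveI := finite_of_le hWS
  have hWp := isPGroup_of_le hNp hWS
  have hle := CfsgLib.FusionSub.hyperfocal_le N₁ p
  obtain ⟨D, hDs, hDi⟩ := PPower.exists_pPowerIndex hWp hN₁n.1.1 hle le_rfl
  have hDn := pResidual_isNormalIn (h := ⟨hNp, hN₁n.1.2.1, hN₁n⟩) rfl hDs hDi
  haveI := finite_of_le (hle.trans hWS)
  refine ⟨_, D, hDn, fun P φ hφ => ?_, fun U C hC => ?_⟩
  · have := le_of_pPrime_le (isPGroup_of_le hWp hle) hDs hDi.1 hle (within E hhyp)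
      (fun P hP γ hγ hco => ?_) P hφ
    · exact this.1
    refine (mem_autGroup_iff _ hP).mpr ⟨?_, hP, fun x => hP (γ x).2⟩
    exact (mem_autGroup_iff E (hP.trans hhyp)).mp (haut P (hP.trans hhyp) γ hγ hco)
  · have hUT := component_base_le hS hF hE hX hN hC
    have hsub := CoreComponent.subnormal_isSubsystemOf hC.1
    have hUW : U ≤ normalizerIn (X ⊔ T) X := fun u hu =>
      ⟨c.tr (hUT hu), (subsystem_le hsub hu).2⟩
    refine Layer.component_le hC.1 hC.2 hNp hDn ?_
    exact hC.2.2.1.ge.trans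
      (Central.hyperfocal_mono (Layer.component_le hC.1 hC.2 hNp hN₁n hUW))

end CfsgLib.FusionBasics.Balance
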